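import Groth.Agent.Lib.CartanImg21.Main
import Groth.Agent.Lib.AttrBorel21.CentGenMain
import Groth.Agent.Lib.TorPts21.CentralTorus
import Groth.Agent.Lib.TorPts21.Nilpotent

/-!
# Nilpotent groups and central tori
-/

set_option autoImplicit false
set_option linter.style.haveILetI false
set_option linter.unusedSectionVars false
set_option backward.isDefEq.respectTransparency.types false
set_option maxSynthPendingDepth 3

universe u

open CategoryTheory Limits MonoidalCategory CartesianMonoidalCategory MonObj AlgebraicGeometry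

noncomputable section

namespace Groth.Agent.NilTori21

open DiagGL CartanT21 MTRigid29

variable {k : Type u} [Field k] [IsAlgClosed k] {G Q Z T : Over (Spec (CommRingCat.of k))}
  [GrpObj G] [GrpObj Q] [GrpObj Z] [GrpObj T]

theorem gpt_toPt (g : 𝟙_ (Over (Spec (CommRingCat.of k))) ⟶ G) :
    InvRing21.toPt (𝟙_ (Over (Spec (CommRingCat.of k)))) ≫ TorPts21.gpt g = g := by
  rw [TorPts21.gpt, ← Category.assoc, toUnit_unique (InvRing21.toPt _ ≫ toUnit _) (𝟙 _), Category.id_comp]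

/-- Points over the two models of the spectrum of the field. -/
def ptsEquiv (G : Over (Spec (CommRingCat.of k))) [GrpObj G] :
    (𝟙_ (Over (Spec (CommRingCat.of k))) ⟶ G) ≃* (VecGrp.pt k k ⟶ G) where
  toFun := TorPts21.gpt
  invFun y := InvRing21.toPt _ ≫ y
  left_inv := gpt_toPt
  right_inv y := by
    show toUnit _ ≫ InvRing21.toPt _ ≫ y = y
    rw [← Category.assoc, InvRing21.comp_toPt, InvRing21.toPt_pt, Category.id_comp]
  map_mul' a b := MonObj.comp_mul _ _ _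

set_option maxHeartbeats 800000 in
/-- A torus central modulo a central subgroup of a connected group is central. -/
theorem central_of_quotient_central [Smooth G.hom] [QuasiCompact G.hom] [ConnectedSpace ↥G.left]
    [LocallyOfFiniteType Z.hom] (z : Z ⟶ G) [IsMonHom z] [IsClosedImmersion z.left]
    (hz : ∀ (x : VecGrp.pt k k ⟶ Z) (g : VecGrp.pt k k ⟶ G), (x ≫ z) * g = g * (x ≫ z))
    (q : G ⟶ Q) [IsMonHom q] (hker : AlgGrp.IsKernel z q) (i : T ⟶ G) [IsMonHom i] (hT : Red.IsTorus T)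
    (h : ∀ (g : VecGrp.pt k k ⟶ G) (t : VecGrp.pt k k ⟶ T), (g * (t ≫ i)) ≫ q = ((t ≫ i) * g) ≫ q)
    {X : Over (Spec (CommRingCat.of k))} (g : X ⟶ G) (x : X ⟶ T) : g * (x ≫ i) = (x ≫ i) * g := by
  haveI : IsSeparated G.hom := AbRigid.isSeparated_of_grpObj G
  have hm : ∀ (a : VecGrp.pt k k ⟶ G) (t : VecGrp.pt k k ⟶ T), ∃ w : VecGrp.pt k k ⟶ Z,
      w ≫ z = (a ≫ 𝟙 G) * (t ≫ i) * (a ≫ 𝟙 G)⁻¹ * (t ≫ i)⁻¹ := fun a t =>
    ⟨hker.lift _ (toUnit _) (by
      have ha := h a t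
      rw [MonObj.mul_comp, MonObj.mul_comp] at ha
      simp only [Category.comp_id, MonObj.mul_comp, GrpObj.inv_comp, ha]
      rw [mul_inv_cancel_right, mul_inv_cancel, Hom.one_def]), hker.lift_fst _ _ _⟩
  have hpt : ∀ (y : VecGrp.pt k k ⟶ G) (X : Over (Spec (CommRingCat.of k))) (x : X ⟶ T),
      (InvRing21.toPt X ≫ y) * (x ≫ i) = (x ≫ i) * (InvRing21.toPt X ≫ y) := fun y =>
    AttrBorel21.commute_of_commute_tors hT i y fun t n hn ht => by
      have e := AttrBorel21.commute_torus_of_family z hz i (𝟙 G) 1 (MonObj.one_comp _) hm y t hn ht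
      rwa [Category.comp_id] at e
  obtain ⟨C, _, c, hC, hcc, -⟩ := TorusCentr19.exists_centralizer'
    (isMT_of_ft (TorPts21.isMultTypeFT_of_isTorus hT)) inferInstance i
  haveI := hcc
  haveI := hC.1
  haveI : JacobsonSpace G.left := LocallyOfFiniteType.jacobsonSpace G.hom
  haveI : Surjective c.left := ⟨fun v => by
    by_contra hv
    obtain ⟨w, hw, hwc⟩ := nonempty_inter_closedPoints (Z := (Set.range c.left)ᶜ) ⟨v, hv⟩
      c.left.isClosedEmbedding.isClosed_range.isOpen_compl.isLocallyClosed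
    obtain ⟨y, hy⟩ := CartanImg21.exists_pt_of_closed w hwc
    obtain ⟨y', hy'⟩ := (hC.2.2 _ y).2 fun X' s t => by
      have e := hpt (TorPts21.gpt y) X' t
      rwa [show InvRing21.toPt X' ≫ TorPts21.gpt y = s ≫ y by
        rw [TorPts21.gpt, ← Category.assoc, toUnit_unique (InvRing21.toPt X' ≫ toUnit _) s]] at e
    exact hw ⟨y'.left (IsLocalRing.closedPoint k), by rw [← Scheme.Hom.comp_apply, ← Over.comp_left, hy', hy]⟩⟩
  haveI := OrbitTop19.isReduced_of_smooth G.hom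
  obtain ⟨l, hl⟩ := PerfProd19.exists_lift_of_surjective c (𝟙 G)
  have e := (hC.2.2 X g).1 ⟨g ≫ l, by rw [Category.assoc, hl, Category.comp_id]⟩ X (𝟙 X) x
  simpa only [Category.id_comp] using e

variable [Smooth G.hom] [QuasiCompact G.hom] [ConnectedSpace ↥G.left]

/-- The rational points of a group with central tori form a nilpotent group. -/
theorem isNilpotent_of_central
    (h : ∀ (T : Over (Spec (CommRingCat.of k))) [GrpObj T] (j : T ⟶ G) [IsMonHom j] [Mono j], Red.IsTorus T →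
      ∀ (X : Over (Spec (CommRingCat.of k))) (t : X ⟶ T) (g : X ⟶ G), (t ≫ j) * g = g * (t ≫ j)) :
    Group.IsNilpotent (𝟙_ (Over (Spec (CommRingCat.of k))) ⟶ G) := by
  obtain ⟨Z, _, z, Q, _, q, hZ, hzc, hqm, hqs, hqf, hker, hQa, hQs, hQc⟩ := AttrBorel21.exists_centre_quotient G
  haveI := hzc
  haveI := hqm
  haveI := hqs
  haveI := hQa
  haveI := hQs
  haveI := hQc
  haveI : Mono η[G] := SplitMono.mono ⟨toUnit G, toUnit_unique _ _⟩
  obtain ⟨T, _, i, _, hT, -⟩ := AttrBorel21.exists_maxTorus_ge_gen Semiab15.isTorus_unit η[G]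
  haveI := hT.1
  haveI := hT.2.1
  obtain ⟨T₁, _, i₁, v₁, hT₁, -, hv₁, hs₁, -⟩ :=
    ImTor21.exists_image_maxTorus q (fun s => CentMT21.surjective_map_left q _) i
      (AttrBorel21.isMaximalTorus_of_isMaxTorus hT)
  haveI := hs₁
  haveI := hT₁.1
  haveI := (TorPts21.props_of_isTorus hT.2.2.1).2.1
  haveI := (TorPts21.props_of_isTorus hT₁.2.2.1).1
  haveI := (TorPts21.props_of_isTorus hT₁.2.2.1).2.1
  have hQ : AGF.IsNilpotentGrp Q :=
    TorPts21.isNilpotentGrp_of_central_maxTorus (TorPts21.isMaxTorus_of_isMaximalTorus hT₁) fun {X} x y =>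
      TorPts21.comm_of_points hT₁.2.2.1 (fun g t => by
        obtain ⟨g', rfl⟩ := AttrBorel21.exists_pt_lift q g
        obtain ⟨t', rfl⟩ := AttrBorel21.exists_pt_lift v₁ t
        rw [Category.assoc, hv₁, ← Category.assoc, ← MonObj.mul_comp, ← MonObj.mul_comp,
          h T i hT.2.2.1 _ t' g']) x y
  obtain ⟨m, hm⟩ := hQ
  haveI : Group.IsNilpotent (𝟙_ (Over (Spec (CommRingCat.of k))) ⟶ Q) := ⟨⟨m, hm _⟩⟩
  let f : (𝟙_ (Over (Spec (CommRingCat.of k))) ⟶ G) →* (𝟙_ (Over (Spec (CommRingCat.of k))) ⟶ Q) :=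
    MonoidHom.mk' (fun g => g ≫ q) fun a b => MonObj.mul_comp _ _ _
  refine Subgroup.isNilpotent_of_ker_le_center f fun a ha => Subgroup.mem_center_iff.2 fun b => ?_
  have ha' : a ≫ q = toUnit _ ≫ η[Q] := (MonoidHom.mem_ker.1 ha).trans (by rw [Hom.one_def])
  have e := (hZ.2.2 _ a).1 ⟨hker.lift a (toUnit _) ha', hker.lift_fst _ _ _⟩ _ (𝟙 _) b
  simpa only [Category.id_comp, Category.comp_id] using e.symm

/-- In a nilpotent connected group every torus is central. -/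
theorem central_of_isNilpotent [Group.IsNilpotent (𝟙_ (Over (Spec (CommRingCat.of k))) ⟶ G)]
    (i : T ⟶ G) [IsMonHom i] (hT : Red.IsTorus T) {X : Over (Spec (CommRingCat.of k))} (g : X ⟶ G) (x : X ⟶ T) :
    g * (x ≫ i) = (x ≫ i) * g := by
  obtain ⟨Z, _, z, Q, _, q, hZ, hzc, hqm, hqs, hqf, hker, hQa, hQs, hQc⟩ := AttrBorel21.exists_centre_quotient G
  haveI := hzc
  haveI := hZ.1
  haveI := hqm
  haveI := hqs
  haveI := hQa
  haveI := hQs
  haveI := hQc
  haveI : LocallyOfFiniteType Z.hom := by rw [← Over.w z]; infer_instance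
  haveI : Group.IsNilpotent (VecGrp.pt k k ⟶ G) := Group.nilpotent_of_mulEquiv (ptsEquiv G)
  haveI : Group.IsNilpotent (VecGrp.pt k k ⟶ Q) :=
    Group.nilpotent_of_surjective (MonoidHom.mk' (fun g : VecGrp.pt k k ⟶ G => g ≫ q) fun a b => MonObj.mul_comp _ _ _)
      fun y => AttrBorel21.exists_pt_lift q y
  have hnil : AGF.IsNilpotentGrp Q := TorPts21.isNilpotentGrp_of_points (Group.nilpotencyClass (VecGrp.pt k k ⟶ Q))
    fun y => by rw [Subgroup.upperCentralSeries_nilpotencyClass]; trivial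
  obtain ⟨σ, _, s, p, hsm, hsmono, hσ, hp⟩ := AttrBorel21.exists_torus_image hT (i ≫ q)
  haveI := hsm
  refine central_of_quotient_central z (fun a b => ?_) q hker i hT (fun a t => ?_) g x
  · have e := (hZ.2.2 _ (a ≫ z)).1 ⟨a, rfl⟩ _ (𝟙 _) b
    simpa only [Category.id_comp, Category.comp_id] using e
  · have e : (t ≫ i) ≫ q = (t ≫ p) ≫ s := by rw [Category.assoc, Category.assoc, hp]
    rw [MonObj.mul_comp, MonObj.mul_comp, e]
    exact TorPts21.comm_of_isNilpotentGrp hnil hσ (a ≫ q) (t ≫ p)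

/-- If there is only one maximal torus it is central. -/
theorem central_of_normalized {i : T ⟶ G} (hT : Red.IsMaximalTorus i)
    (hn : ∀ g : 𝟙_ (Over (Spec (CommRingCat.of k))) ⟶ G, ∃ φ : T ≅ T, φ.hom ≫ i = i ≫ (conjIso g).hom)
    {X : Over (Spec (CommRingCat.of k))} (g : X ⟶ G) (x : X ⟶ T) : g * (x ≫ i) = (x ≫ i) * g := by
  haveI := hT.1
  obtain ⟨Z, _, z, Q, _, q, hZ, hzc, hqm, hqs, hqf, hker, hQa, hQs, hQc⟩ := AttrBorel21.exists_centre_quotient G
  haveI := hzc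
  haveI := hZ.1
  haveI := hqm
  haveI := hqs
  haveI := hQa
  haveI := hQs
  haveI := hQc
  haveI : LocallyOfFiniteType Z.hom := by rw [← Over.w z]; infer_instance
  obtain ⟨T₁, _, i₁, v₁, hT₁, -, hv₁, hs₁, -⟩ :=
    ImTor21.exists_image_maxTorus q (fun s => CentMT21.surjective_map_left q _) i hT
  haveI := hs₁
  haveI := hT₁.1
  haveI := (TorPts21.props_of_isTorus hT.2.2.1).2.1
  haveI := (TorPts21.props_of_isTorus hT₁.2.2.1).1
  haveI := (TorPts21.props_of_isTorus hT₁.2.2.1).2.1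
  have key : ∀ (y : VecGrp.pt k k ⟶ Q) (t : VecGrp.pt k k ⟶ T₁), ∃ t' : VecGrp.pt k k ⟶ T₁,
      y * (t ≫ i₁) * y⁻¹ = t' ≫ i₁ := fun y t => by
    obtain ⟨y', rfl⟩ := AttrBorel21.exists_pt_lift q y
    obtain ⟨t₀, rfl⟩ := AttrBorel21.exists_pt_lift v₁ t
    obtain ⟨y₀, rfl⟩ := TorPts21.exists_gpt y'
    obtain ⟨φ, hφ⟩ := hn y₀
    refine ⟨(t₀ ≫ φ.hom) ≫ v₁, ?_⟩
    simp only [Category.assoc, hv₁]
    rw [← Category.assoc φ.hom, hφ, ← Category.assoc t₀ (i ≫ (conjIso y₀).hom) q,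
      ← Category.assoc t₀ i (conjIso y₀).hom, comp_conjIso]
    simp only [TorPts21.gpt, MonObj.mul_comp, GrpObj.inv_comp, Category.assoc]
  refine central_of_quotient_central z (fun a b => ?_) q hker i hT.2.2.1 (fun a t => ?_) g x
  · have e := (hZ.2.2 _ (a ≫ z)).1 ⟨a, rfl⟩ _ (𝟙 _) b
    simpa only [Category.id_comp, Category.comp_id] using e
  · have e : (t ≫ i) ≫ q = (t ≫ v₁) ≫ i₁ := by rw [Category.assoc, Category.assoc, hv₁]
    rw [MonObj.mul_comp, MonObj.mul_comp, e]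
    exact TorPts21.comm_of_normalized hT₁.2.2.1 key (a ≫ q) (t ≫ v₁)

set_option maxHeartbeats 800000 in
/-- Nilpotency, centrality of tori and uniqueness of maximal tori are equivalent. -/
theorem nilpotent_iff (G : Over (Spec (CommRingCat.of k))) [GrpObj G] [Smooth G.hom] [QuasiCompact G.hom]
    [ConnectedSpace ↥G.left] :
    (Group.IsNilpotent (𝟙_ (Over (Spec (CommRingCat.of k))) ⟶ G) ↔
      ∀ (T : Over (Spec (CommRingCat.of k))) [GrpObj T] (j : T ⟶ G) [IsMonHom j] [Mono j], Red.IsTorus T →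
        ∀ (X : Over (Spec (CommRingCat.of k))) (t : X ⟶ T) (g : X ⟶ G), (t ≫ j) * g = g * (t ≫ j)) ∧
    (Group.IsNilpotent (𝟙_ (Over (Spec (CommRingCat.of k))) ⟶ G) ↔
      ∀ (T₁ T₂ : Over (Spec (CommRingCat.of k))) [GrpObj T₁] [GrpObj T₂] (i₁ : T₁ ⟶ G) (i₂ : T₂ ⟶ G),
        Red.IsMaximalTorus i₁ → Red.IsMaximalTorus i₂ → ∃ φ : T₁ ≅ T₂, φ.hom ≫ i₂ = i₁) := by
  refine ⟨⟨fun hn T _ j _ _ hT X t g => (central_of_isNilpotent j hT g t).symm, isNilpotent_of_central⟩,
    ⟨fun hn T₁ T₂ _ _ i₁ i₂ h₁ h₂ => ?_, fun hu => isNilpotent_of_central fun T _ j _ _ hT X t g => ?_⟩⟩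
  · haveI := h₁.1
    obtain ⟨g, φ, hφ⟩ := MTConj21.exists_conj_maxTorus_disc (TorPts21.isMaxTorus_of_isMaximalTorus h₁)
      (TorPts21.isMaxTorus_of_isMaximalTorus h₂)
    refine ⟨φ, hφ.symm.trans ?_⟩
    have e := central_of_isNilpotent i₁ h₁.2.2.1 (toUnit T₁ ≫ g) (𝟙 T₁)
    rw [Category.id_comp] at e
    rw [e, _root_.mul_inv_cancel_right]
  · obtain ⟨T', _, i', f, hT', hf⟩ := AttrBorel21.exists_maxTorus_ge_gen hT j
    have hT'' := AttrBorel21.isMaximalTorus_of_isMaxTorus hT'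
    have e := central_of_normalized hT''
      (fun a => (hu _ _ _ _ (isMaximalTorus_conj hT'' a) hT'').imp fun φ hφ => hφ) g (t ≫ f)
    rw [Category.assoc, hf] at e
    exact e.symm

end Groth.Agent.NilTori21
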